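import Mathlib

set_option autoImplicit false

namespace CfsgLib.Lead

open MulAction

/-- Burnside's lemma in `Nat.card` form. -/
theorem burnside_card {G X : Type*} [Group G] [Finite G] [MulAction G X] [Finite X] :
    ∑ᶠ g : G, Nat.card (fixedBy X g) = Nat.card (orbitRel.Quotient G X) * Nat.card G := by
  classical
  haveI := Fintype.ofFinite G
  haveI := Fintype.ofFinite X
  haveI : Fintype (orbitRel.Quotient G X) := Fintype.ofFinite _
  rw [finsum_eq_sum_of_fintype]
  have := MulAction.sum_card_fixedBy_eq_card_orbits_mul_card_group G X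
  simp only [Nat.card_eq_fintype_card]
  convert this

variable {G Ω : Type*} [Group G] [Finite G] [MulAction G Ω] [Finite Ω]

/-- The subgroup generated by the derangements. -/
abbrev derangeSub (G Ω : Type*) [Group G] [MulAction G Ω] : Subgroup G :=
  Subgroup.closure {g : G | ∀ ω : Ω, g • ω ≠ ω}

theorem sum_fixedBy_subgroup (D : Subgroup G) :
    ∑ᶠ d : D, Nat.card (fixedBy Ω (d : G)) = Nat.card (orbitRel.Quotient D Ω) * Nat.card D := by
  rw [← burnside_card (G := D) (X := Ω)]
  rfl

/-- Main lemma: `D` is transitive, and every element outside `D` has exactly one fixed point. -/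
theorem derange_main (htrans : IsPretransitive G Ω) [Nonempty Ω] :
    IsPretransitive (derangeSub G Ω) Ω ∧
    ∀ g : G, g ∉ derangeSub G Ω → Nat.card (fixedBy Ω g) = 1 := by
  classical
  haveI := Fintype.ofFinite G
  haveI := Fintype.ofFinite Ω
  set D := derangeSub G Ω with hD
  -- fixed points of elements outside D
  have hge : ∀ g : G, g ∉ D → 1 ≤ Nat.card (fixedBy Ω g) := by
    intro g hg
    have : ∃ ω : Ω, g • ω = ω := by
      by_contra hcon
      push Not at hcon
      exact hg (Subgroup.subset_closure hcon)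
    obtain ⟨ω, hω⟩ := this
    haveI : Nonempty (fixedBy Ω g) := ⟨⟨ω, hω⟩⟩
    exact Nat.card_pos
  -- Burnside for G
  have hG : ∑ g : G, Nat.card (fixedBy Ω g) = Nat.card G := by
    have h := burnside_card (G := G) (X := Ω)
    rw [finsum_eq_sum_of_fintype] at h
    rw [h]
    have : Nat.card (orbitRel.Quotient G Ω) = 1 := by
      rw [Nat.card_eq_one_iff_unique]
      haveI := (MulAction.pretransitive_iff_subsingleton_quotient G Ω).1 htrans
      refine ⟨inferInstance, ?_⟩
      exact ⟨Quotient.mk'' (Classical.arbitrary Ω)⟩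
    rw [this, one_mul]
  -- Burnside for D
  have hDsum : ∑ d : D, Nat.card (fixedBy Ω (d : G)) = Nat.card (orbitRel.Quotient D Ω) * Nat.card D := by
    have h := sum_fixedBy_subgroup (Ω := Ω) D
    rwa [finsum_eq_sum_of_fintype] at h
  have ht1 : 1 ≤ Nat.card (orbitRel.Quotient D Ω) := by
    haveI : Nonempty (orbitRel.Quotient D Ω) := ⟨Quotient.mk'' (Classical.arbitrary Ω)⟩
    exact Nat.card_pos
  -- split the sum
  have hsplit : ∑ g : G, Nat.card (fixedBy Ω g) =
      ∑ d : D, Nat.card (fixedBy Ω (d : G)) +
      ∑ g ∈ Finset.univ.filter (fun g : G => g ∉ D), Nat.card (fixedBy Ω g) := by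
    rw [← Finset.sum_filter_add_sum_filter_not Finset.univ (fun g : G => g ∈ D)]
    congr 1
    refine Finset.sum_bij' (fun g hg => ⟨g, (Finset.mem_filter.1 hg).2⟩) (fun d _ => (d : G)) ?_ ?_ ?_ ?_ ?_
    · intro g hg; exact Finset.mem_univ _
    · intro d _; simp
    · intro g hg; rfl
    · intro d _; rfl
    · intro g hg; rfl
  have hcount : (Finset.univ.filter (fun g : G => g ∉ D)).card + Nat.card D = Nat.card G := by
    have h1 := Finset.card_filter_add_card_filter_not (s := (Finset.univ : Finset G)) (fun g : G => g ∉ D)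
    have h2 : (Finset.univ.filter (fun g : G => ¬ g ∉ D)).card = Nat.card D := by
      rw [Nat.card_eq_fintype_card, Fintype.card_subtype]
      simp
    rw [h2] at h1
    rw [h1, Nat.card_eq_fintype_card, Finset.card_univ]
  have hlb : (Finset.univ.filter (fun g : G => g ∉ D)).card ≤
      ∑ g ∈ Finset.univ.filter (fun g : G => g ∉ D), Nat.card (fixedBy Ω g) := by
    rw [Finset.card_eq_sum_ones]
    exact Finset.sum_le_sum (fun g hg => hge g (Finset.mem_filter.1 hg).2)
  have hDpos : 0 < Nat.card D := Nat.card_pos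
  set t := Nat.card (orbitRel.Quotient D Ω) with ht
  have hmul : t * Nat.card D ≥ Nat.card D := Nat.le_mul_of_pos_left _ ht1
  rw [hG, hDsum] at hsplit
  have htone : t = 1 := by
    by_contra hne
    have h2 : 2 ≤ t := by omega
    have : 2 * Nat.card D ≤ t * Nat.card D := Nat.mul_le_mul_right _ h2
    omega
  refine ⟨?_, ?_⟩
  · rw [MulAction.pretransitive_iff_subsingleton_quotient]
    rw [ht] at htone
    exact (Nat.card_eq_one_iff_unique.1 htone).1
  · intro g hg
    have heq : ∑ g ∈ Finset.univ.filter (fun g : G => g ∉ D), Nat.card (fixedBy Ω g) =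
        (Finset.univ.filter (fun g : G => g ∉ D)).card := by
      rw [htone, one_mul] at hsplit
      omega
    by_contra hne
    have hgt : 2 ≤ Nat.card (fixedBy Ω g) := by
      have := hge g hg
      omega
    have hlt : (Finset.univ.filter (fun g : G => g ∉ D)).card <
      ∑ g ∈ Finset.univ.filter (fun g : G => g ∉ D), Nat.card (fixedBy Ω g) := by
      rw [Finset.card_eq_sum_ones]
      refine Finset.sum_lt_sum (fun g hg => hge g (Finset.mem_filter.1 hg).2) ⟨g, ?_, ?_⟩
      · simp [hg]
      · omega
    omega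

end CfsgLib.Lead
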