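import Cfsg.Agent.Lib.PLocal.MaxClass
import Mathlib

set_option autoImplicit false

namespace CfsgLib.Lead

open Subgroup
open scoped commutatorElement

variable {P : Type*} [Group P] [Finite P]

theorem sup_zpowers_eq_top (p : ℕ) (hp : p.Prime) (N : Subgroup P) (hN : N.index = p) (x : P)
    (hx : x ∉ N) : N ⊔ zpowers x = ⊤ := by
  have hle : N ≤ N ⊔ zpowers x := le_sup_left
  have h1 := relIndex_mul_index hle
  rw [hN] at h1
  have h2 : (N ⊔ zpowers x).index = 1 ∨ (N ⊔ zpowers x).index = p :=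
    (Nat.dvd_prime hp).1 ⟨_, by rw [← h1, mul_comm]⟩
  rcases h2 with h2 | h2
  · exact Subgroup.index_eq_one.1 h2
  · rw [h2] at h1
    have h3 : N.relIndex (N ⊔ zpowers x) = 1 := by
      have := hp.pos
      nlinarith
    have h4 := Subgroup.relIndex_eq_one.1 h3
    exact absurd (h4 (mem_sup_right (mem_zpowers x))) hx

theorem ledermann_main (p : ℕ) (hp : p.Prime) (N : Subgroup P) [hNn : N.Normal] (hN : N.index = p) (x : P)
    (hx : x ∉ N) :
    (commutator P).index * Nat.card (commutator N) =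
      p * Nat.card {n : N // x * n * x⁻¹ * (n : P)⁻¹ ∈ (commutator N).map N.subtype} := by
  classical
  obtain ⟨M, hMdef⟩ : ∃ M : Subgroup P, M = (commutator N).map N.subtype := ⟨_, rfl⟩
  rw [← hMdef]
  haveI hM : M.Normal := by
    rw [hMdef]
    exact inferInstance
  have hgen := sup_zpowers_eq_top p hp N hN x hx
  have hMN : M ≤ N := by
    rw [hMdef]
    exact Subgroup.map_subtype_le _
  have hMcomm : ∀ a ∈ N, ∀ b ∈ N, ((a : P) : P ⧸ M) * (b : P ⧸ M) = (b : P ⧸ M) * (a : P ⧸ M) := by
    intro a ha b hb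
    have h1 : a * b * a⁻¹ * b⁻¹ ∈ M := by
      rw [hMdef]
      exact ⟨⁅(⟨a, ha⟩ : N), (⟨b, hb⟩ : N)⁆, Subgroup.commutator_mem_commutator (mem_top _) (mem_top _), rfl⟩
    have h2 := (QuotientGroup.eq_one_iff _).2 h1
    simp only [QuotientGroup.mk_mul, QuotientGroup.mk_inv] at h2
    rw [mul_inv_eq_one, mul_inv_eq_iff_eq_mul] at h2
    exact h2
  have hxN : ∀ n ∈ N, x * n * x⁻¹ ∈ N := fun n hn => hNn.conj_mem n hn x
  have hxN' : ∀ n ∈ N, x⁻¹ * n * x ∈ N := fun n hn => by
    simpa using hNn.conj_mem n hn x⁻¹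
  have hcN : ∀ n ∈ N, x * n * x⁻¹ * n⁻¹ ∈ N := fun n hn => N.mul_mem (hxN n hn) (N.inv_mem hn)
  let ψ : N →* P ⧸ M := MonoidHom.mk' (fun n => ((x * n * x⁻¹ * (n : P)⁻¹ : P) : P ⧸ M)) (by
    intro a b
    have e : x * ((a * b : N) : P) * x⁻¹ * (((a * b : N) : P))⁻¹ =
        (x * a * x⁻¹) * ((x * b * x⁻¹ * (b : P)⁻¹) * (a : P)⁻¹) := by
      push_cast
      group
    have e2 : ((x * b * x⁻¹ * (b : P)⁻¹ : P) : P ⧸ M) * (((a : P)⁻¹ : P) : P ⧸ M) =
        (((a : P)⁻¹ : P) : P ⧸ M) * ((x * b * x⁻¹ * (b : P)⁻¹ : P) : P ⧸ M) :=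
      hMcomm _ (hcN b b.2) _ (N.inv_mem a.2)
    rw [e]
    show ((x * (a : P) * x⁻¹ : P) : P ⧸ M) * (((x * b * x⁻¹ * (b : P)⁻¹ : P) : P ⧸ M) * (((a : P)⁻¹ : P) : P ⧸ M)) =
      (((x * (a : P) * x⁻¹ : P) : P ⧸ M) * (((a : P)⁻¹ : P) : P ⧸ M)) * ((x * b * x⁻¹ * (b : P)⁻¹ : P) : P ⧸ M)
    rw [e2]
    exact (mul_assoc _ _ _).symm)
  have hψ : ∀ n : N, ψ n = ((x * n * x⁻¹ * (n : P)⁻¹ : P) : P ⧸ M) := fun n => rfl
  have hker : Nat.card {n : N // x * n * x⁻¹ * (n : P)⁻¹ ∈ M} = Nat.card ψ.ker := by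
    apply Nat.card_congr
    apply Equiv.subtypeEquivRight
    intro n
    rw [MonoidHom.mem_ker, hψ, QuotientGroup.eq_one_iff]
  rw [hker]
  -- the subgroup T
  obtain ⟨T, hTdef⟩ : ∃ T : Subgroup P, T = ψ.range.comap (QuotientGroup.mk' M) := ⟨_, rfl⟩
  have hTmem : ∀ t : P, t ∈ T ↔ ∃ n : N, ((x * n * x⁻¹ * (n : P)⁻¹ : P) : P ⧸ M) = (t : P ⧸ M) := by
    intro t
    rw [hTdef, Subgroup.mem_comap, MonoidHom.mem_range]
    rfl
  have hTP : T = commutator P := by
    apply le_antisymm
    · intro t ht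
      obtain ⟨n, hn⟩ := (hTmem t).1 ht
      have h0 : (x * n * x⁻¹ * (n : P)⁻¹)⁻¹ * t ∈ M := QuotientGroup.eq.1 hn
      have h1 : (x * n * x⁻¹ * (n : P)⁻¹) ∈ commutator P := by
        rw [_root_.commutator_def]
        exact Subgroup.commutator_mem_commutator (g₁ := x) (g₂ := (n : P)) (mem_top _) (mem_top _)
      have hMP : M ≤ commutator P := by
        rw [hMdef, _root_.commutator_def, _root_.commutator_def, map_commutator]
        exact commutator_mono le_top le_top
      have h2 := (commutator P).mul_mem h1 (hMP h0)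
      rwa [mul_inv_cancel_left] at h2
    · have hMT : M ≤ T := fun m hm => (hTmem m).2 ⟨1, by simp [(QuotientGroup.eq_one_iff m).2 hm]⟩
      have hcT : ∀ n ∈ N, x * n * x⁻¹ * n⁻¹ ∈ T := fun n hn => (hTmem _).2 ⟨⟨n, hn⟩, rfl⟩
      have hi : ∀ n ∈ N, ∀ t ∈ T, n * t * n⁻¹ ∈ T := by
        intro n hn t ht
        obtain ⟨m, hm⟩ := (hTmem t).1 ht
        refine (hTmem _).2 ⟨m, ?_⟩
        show _ = (n : P ⧸ M) * (t : P ⧸ M) * ((n⁻¹ : P) : P ⧸ M)
        rw [← hm, hMcomm n hn _ (hcN m m.2), QuotientGroup.mk_inv, mul_inv_cancel_right]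
      have hii : ∀ t ∈ T, x * t * x⁻¹ ∈ T := by
        intro t ht
        obtain ⟨m, hm⟩ := (hTmem t).1 ht
        refine (hTmem _).2 ⟨⟨x * m * x⁻¹, hxN m m.2⟩, ?_⟩
        show ((x * (x * m * x⁻¹) * x⁻¹ * (x * m * x⁻¹)⁻¹ : P) : P ⧸ M) =
          (x : P ⧸ M) * (t : P ⧸ M) * ((x⁻¹ : P) : P ⧸ M)
        rw [← hm]
        show _ = ((x * (x * m * x⁻¹ * (m : P)⁻¹) * x⁻¹ : P) : P ⧸ M)
        congr 1
        group
      have hiii : ∀ t ∈ T, x⁻¹ * t * x ∈ T := by
        intro t ht
        obtain ⟨m, hm⟩ := (hTmem t).1 ht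
        refine (hTmem _).2 ⟨⟨x⁻¹ * m * x, hxN' m m.2⟩, ?_⟩
        show ((x * (x⁻¹ * m * x) * x⁻¹ * (x⁻¹ * m * x)⁻¹ : P) : P ⧸ M) =
          ((x⁻¹ : P) : P ⧸ M) * (t : P ⧸ M) * (x : P ⧸ M)
        rw [← hm]
        show _ = ((x⁻¹ * (x * m * x⁻¹ * (m : P)⁻¹) * x : P) : P ⧸ M)
        congr 1
        group
      have hNT : N ≤ normalizer (T : Set P) := by
        intro n hn
        rw [Subgroup.mem_normalizer_iff]
        intro t
        constructor
        · exact hi n hn t
        · intro h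
          have := hi n⁻¹ (N.inv_mem hn) _ h
          have e : n⁻¹ * (n * t * n⁻¹) * n⁻¹⁻¹ = t := by group
          rwa [e] at this
      have hxT : x ∈ normalizer (T : Set P) := by
        rw [Subgroup.mem_normalizer_iff]
        intro t
        constructor
        · exact hii t
        · intro h
          have := hiii _ h
          have e : x⁻¹ * (x * t * x⁻¹) * x = t := by group
          rwa [e] at this
      haveI hTn : T.Normal := by
        rw [← normalizer_eq_top_iff, eq_top_iff, ← hgen, sup_le_iff]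
        exact ⟨hNT, zpowers_le.2 hxT⟩
      have hcent : ∀ u : P, (∀ a ∈ N, (u : P ⧸ T) * (a : P ⧸ T) = (a : P ⧸ T) * u) →
          ((u : P ⧸ T) * (x : P ⧸ T) = (x : P ⧸ T) * u) → ∀ g : P, (u : P ⧸ T) * (g : P ⧸ T) = (g : P ⧸ T) * u := by
        intro u h1 h2 g
        have hY : N ⊔ zpowers x ≤ (centralizer ({(u : P ⧸ T)} : Set (P ⧸ T))).comap (QuotientGroup.mk' T) := by
          refine sup_le ?_ (zpowers_le.2 ?_)
          · intro a ha
            rw [Subgroup.mem_comap, Subgroup.mem_centralizer_singleton_iff]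
            exact (h1 a ha).symm
          · rw [Subgroup.mem_comap, Subgroup.mem_centralizer_singleton_iff]
            exact h2.symm
        rw [hgen] at hY
        have := hY (mem_top g)
        rw [Subgroup.mem_comap, Subgroup.mem_centralizer_singleton_iff] at this
        exact this.symm
      have hcommT : ∀ a b : P, a * b * a⁻¹ * b⁻¹ ∈ T → (a : P ⧸ T) * (b : P ⧸ T) = (b : P ⧸ T) * (a : P ⧸ T) := by
        intro a b h
        have h2 := (QuotientGroup.eq_one_iff _).2 h
        simp only [QuotientGroup.mk_mul, QuotientGroup.mk_inv] at h2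
        rw [mul_inv_eq_one, mul_inv_eq_iff_eq_mul] at h2
        exact h2
      have hNcomm : ∀ a ∈ N, ∀ b ∈ N, (a : P ⧸ T) * (b : P ⧸ T) = (b : P ⧸ T) * (a : P ⧸ T) := by
        intro a ha b hb
        apply hcommT
        apply hMT
        rw [hMdef]
        exact ⟨⁅(⟨a, ha⟩ : N), (⟨b, hb⟩ : N)⁆, Subgroup.commutator_mem_commutator (mem_top _) (mem_top _), rfl⟩
      have hxcomm : ∀ a ∈ N, (x : P ⧸ T) * (a : P ⧸ T) = (a : P ⧸ T) * (x : P ⧸ T) :=
        fun a ha => hcommT x a (hcT a ha)
      have hxc := hcent x hxcomm rfl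
      have hnc : ∀ a ∈ N, ∀ g : P, (a : P ⧸ T) * (g : P ⧸ T) = (g : P ⧸ T) * (a : P ⧸ T) :=
        fun a ha => hcent a (hNcomm a ha) (hxcomm a ha).symm
      have hall : ∀ g h : P, (g : P ⧸ T) * (h : P ⧸ T) = (h : P ⧸ T) * (g : P ⧸ T) :=
        fun g => hcent g (fun a ha => (hnc a ha g).symm) (hxc g).symm
      show ⁅(⊤ : Subgroup P), (⊤ : Subgroup P)⁆ ≤ T
      rw [Subgroup.commutator_le]
      intro g _ h _
      rw [← QuotientGroup.eq_one_iff, commutatorElement_def]
      simp only [QuotientGroup.mk_mul, QuotientGroup.mk_inv]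
      rw [hall g h]
      group
  have hidx : T.index = ψ.range.index := by
    rw [hTdef]
    exact Subgroup.index_comap_of_surjective _ (QuotientGroup.mk'_surjective M)
  have h1 : Nat.card ψ.ker * Nat.card ψ.range = Nat.card N := by
    rw [Subgroup.card_eq_card_quotient_mul_card_subgroup ψ.ker, mul_comm,
      ← Nat.card_congr (QuotientGroup.quotientKerEquivRange ψ).toEquiv]
  have h2 : ψ.range.index * Nat.card ψ.range = Nat.card (P ⧸ M) := Subgroup.index_mul_card _
  have h3 : Nat.card P = Nat.card (P ⧸ M) * Nat.card M := Subgroup.card_eq_card_quotient_mul_card_subgroup M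
  have h4 : N.index * Nat.card N = Nat.card P := Subgroup.index_mul_card N
  have h5 : Nat.card M = Nat.card (commutator N) := by
    rw [hMdef]
    exact Subgroup.card_map_of_injective N.subtype_injective
  rw [← hTP, hidx, ← h5]
  have hR : 0 < Nat.card ψ.range := Nat.card_pos
  apply Nat.eq_of_mul_eq_mul_right hR
  rw [hN] at h4
  calc ψ.range.index * Nat.card M * Nat.card ψ.range = (ψ.range.index * Nat.card ψ.range) * Nat.card M := by ring
    _ = Nat.card P := by rw [h2, h3]
    _ = p * Nat.card N := h4.symm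
    _ = p * (Nat.card ψ.ker * Nat.card ψ.range) := by rw [h1]
    _ = p * Nat.card ψ.ker * Nat.card ψ.range := by ring


/-- Commutator with a fixed element, as a homomorphism, when the derived subgroup is central. -/
def comHom (hc : commutator P ≤ center P) (x : P) : P →* P where
  toFun g := x * g * x⁻¹ * g⁻¹
  map_one' := by group
  map_mul' a b := by
    have h1 : x * b * x⁻¹ * b⁻¹ ∈ commutator P := by
      rw [_root_.commutator_def]
      exact Subgroup.commutator_mem_commutator (g₁ := x) (g₂ := b) (mem_top _) (mem_top _)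
    have h2 := Subgroup.mem_center_iff.1 (hc h1) a⁻¹
    calc x * (a * b) * x⁻¹ * (a * b)⁻¹ = x * a * x⁻¹ * ((x * b * x⁻¹ * b⁻¹) * a⁻¹) := by group
      _ = x * a * x⁻¹ * (a⁻¹ * (x * b * x⁻¹ * b⁻¹)) := by rw [← h2]
      _ = _ := by group

theorem mem_ker_comHom (hc : commutator P ≤ center P) (x g : P) :
    g ∈ (comHom hc x).ker ↔ x * g = g * x := by
  rw [MonoidHom.mem_ker]
  show x * g * x⁻¹ * g⁻¹ = 1 ↔ _
  rw [mul_inv_eq_one, mul_inv_eq_iff_eq_mul]

theorem range_comHom_le (hc : commutator P ≤ center P) (x : P) :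
    (comHom hc x).range ≤ commutator P := by
  rintro _ ⟨g, rfl⟩
  show x * g * x⁻¹ * g⁻¹ ∈ commutator P
  rw [_root_.commutator_def]
  exact Subgroup.commutator_mem_commutator (g₁ := x) (g₂ := g) (mem_top _) (mem_top _)

theorem center_le_ker_comHom (hc : commutator P ≤ center P) (x : P) :
    center P ≤ (comHom hc x).ker := by
  intro z hz
  rw [mem_ker_comHom]
  exact (Subgroup.mem_center_iff.1 hz x)

/-- Ledermann-type formula. -/
theorem index_commutator_of_abelian_max (p : ℕ) (hp : p.Prime) (N : Subgroup P) [N.Normal]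
    (hN : N.index = p) (hab : ∀ a ∈ N, ∀ b ∈ N, a * b = b * a) (hZN : center P ≤ N) :
    (commutator P).index = p * Nat.card (center P) := by
  classical
  obtain ⟨y, hy⟩ : ∃ y : P, y ∉ N := by
    by_contra hcon
    push_neg at hcon
    have : N = ⊤ := (Subgroup.eq_top_iff' N).2 hcon
    rw [this, Subgroup.index_top] at hN
    exact hp.one_lt.ne hN
  have hmain := ledermann_main p hp N hN y hy
  have hgen := sup_zpowers_eq_top p hp N hN y hy
  have hNbot : commutator N = ⊥ := by
    rw [eq_bot_iff, _root_.commutator_def, Subgroup.commutator_le]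
    intro g _ h _
    rw [Subgroup.mem_bot, commutatorElement_eq_one_iff_mul_comm]
    exact Subtype.ext (hab g g.2 h h.2)
  have hc1 : Nat.card (commutator N) = 1 := by
    rw [hNbot]; exact Nat.card_unique
  have hset : Nat.card {n : N // y * n * y⁻¹ * (n : P)⁻¹ ∈ (commutator N).map N.subtype} =
      Nat.card (center P) := by
    apply Nat.card_congr
    rw [hNbot, Subgroup.map_bot]
    refine
      { toFun := fun n => ⟨n.1, ?_⟩
        invFun := fun z => ⟨⟨z.1, hZN z.2⟩, ?_⟩
        left_inv := fun n => rfl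
        right_inv := fun z => rfl }
    · have h1 : y * (n.1 : P) * y⁻¹ * (n.1 : P)⁻¹ = 1 := Subgroup.mem_bot.1 n.2
      rw [mul_inv_eq_one, mul_inv_eq_iff_eq_mul] at h1
      have hY : N ⊔ zpowers y ≤ centralizer ({(n.1 : P)} : Set P) := by
        refine sup_le ?_ (zpowers_le.2 ?_)
        · intro a ha
          rw [Subgroup.mem_centralizer_singleton_iff]
          exact hab a ha _ n.1.2
        · rw [Subgroup.mem_centralizer_singleton_iff]
          exact h1
      rw [hgen] at hY
      rw [Subgroup.mem_center_iff]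
      intro g
      have := hY (mem_top g)
      rw [Subgroup.mem_centralizer_singleton_iff] at this
      exact this
    · rw [Subgroup.mem_bot]
      have hz := Subgroup.mem_center_iff.1 z.2 y
      show y * (z.1 : P) * y⁻¹ * (z.1 : P)⁻¹ = 1
      rw [mul_inv_eq_one, mul_inv_eq_iff_eq_mul]
      exact hz
  rw [hc1, hset, mul_one] at hmain
  exact hmain

theorem commutator_eq_bot_of_center_top (h : center P = ⊤) : commutator P = ⊥ := by
  rw [eq_bot_iff, _root_.commutator_def, Subgroup.commutator_le]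
  intro g _ h' _
  rw [Subgroup.mem_bot, commutatorElement_eq_one_iff_mul_comm]
  exact (Subgroup.mem_center_iff.1 (h ▸ mem_top g) h').symm

theorem center_eq_top_of_cyclic [IsCyclic (P ⧸ center P)] : center P = ⊤ := by
  rw [Subgroup.eq_top_iff']
  intro x
  rw [Subgroup.mem_center_iff]
  intro g
  have := commutative_of_cyclic_center_quotient (QuotientGroup.mk' (center P)) (by
    rw [QuotientGroup.ker_mk']) g x
  exact this

theorem center_eq_top_of_index_prime {p : ℕ} (hp : p.Prime) (h : (center P).index = p) :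
    center P = ⊤ := by
  haveI : Fact (Nat.card (P ⧸ center P)).Prime := ⟨by rw [← Subgroup.index, h]; exact hp⟩
  haveI : IsCyclic (P ⧸ center P) := isCyclic_of_prime_card rfl
  exact center_eq_top_of_cyclic

/-- If `[P : Z(P)] = p²`, then `#P' = p`. -/
theorem card_commutator_of_center_index (p : ℕ) [hpf : Fact p.Prime] (hP : Nat.card P = p ^ 4)
    (h : (center P).index = p ^ 2) : Nat.card (commutator P) = p := by
  have hp := hpf.out
  have hpos := hp.pos
  -- the derived group is central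
  have hQ : Nat.card (P ⧸ center P) = p ^ 2 := h
  have hcQ := IsPGroup.commutative_of_card_eq_prime_sq hQ
  have hc : commutator P ≤ center P := by
    rw [_root_.commutator_def, Subgroup.commutator_le]
    intro a _ b _
    rw [← QuotientGroup.eq_one_iff, commutatorElement_def]
    simp only [QuotientGroup.mk_mul, QuotientGroup.mk_inv]
    rw [hcQ (a : P ⧸ center P) (b : P ⧸ center P)]
    group
  obtain ⟨x, hx⟩ : ∃ x : P, x ∉ center P := by
    by_contra hcon
    push_neg at hcon
    have : center P = ⊤ := (Subgroup.eq_top_iff' _).2 hcon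
    rw [this, Subgroup.index_top] at h
    have : 1 < p ^ 2 := Nat.one_lt_pow (by norm_num) hp.one_lt
    omega
  obtain ⟨N, hNdef⟩ : ∃ N : Subgroup P, N = (comHom hc x).ker := ⟨_, rfl⟩
  haveI hNn : N.Normal := by rw [hNdef]; exact MonoidHom.normal_ker _
  have hZN : center P ≤ N := by rw [hNdef]; exact center_le_ker_comHom hc x
  have hxN : x ∈ N := by rw [hNdef, mem_ker_comHom]
  have hNmem : ∀ g, g ∈ N ↔ x * g = g * x := fun g => by rw [hNdef, mem_ker_comHom]
  have hNtop : N ≠ ⊤ := by
    intro hN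
    apply hx
    rw [Subgroup.mem_center_iff]
    intro g
    exact ((hNmem g).1 (hN ▸ mem_top g)).symm
  have h1 := relIndex_mul_index hZN
  rw [h] at h1
  have hNidx : N.index ∣ p ^ 2 := ⟨_, by rw [← h1, mul_comm]⟩
  obtain ⟨k, hk, hk2⟩ := (Nat.dvd_prime_pow hp).1 hNidx
  have hrel1 : (center P).relIndex N ≠ 1 := by
    intro h2
    have := Subgroup.relIndex_eq_one.1 h2
    exact hx (this hxN)
  have hk1 : k = 1 := by
    interval_cases k
    · rw [pow_zero, Subgroup.index_eq_one] at hk2
      exact absurd hk2 hNtop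
    · rfl
    · rw [hk2] at h1
      exfalso
      apply hrel1
      have : 0 < p ^ 2 := by positivity
      nlinarith
  subst hk1
  rw [pow_one] at hk2
  have hrelp : (center P).relIndex N = p := by
    rw [hk2] at h1
    have : (center P).relIndex N * p = p * p := by rw [h1]; ring
    exact Nat.eq_of_mul_eq_mul_right hpos this
  -- N is abelian
  have hab : ∀ a ∈ N, ∀ b ∈ N, a * b = b * a := by
    intro a ha b hb
    have hgen := sup_zpowers_eq_top p hp ((center P).subgroupOf N) hrelp (⟨x, hxN⟩ : N) (by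
      rw [Subgroup.mem_subgroupOf]
      exact hx)
    have hY : (center P).subgroupOf N ⊔ zpowers (⟨x, hxN⟩ : N) ≤ centralizer ({(⟨b, hb⟩ : N)} : Set N) := by
      refine sup_le ?_ (zpowers_le.2 ?_)
      · intro z hz
        rw [Subgroup.mem_centralizer_singleton_iff]
        rw [Subgroup.mem_subgroupOf] at hz
        exact Subtype.ext (Subgroup.mem_center_iff.1 hz b).symm
      · rw [Subgroup.mem_centralizer_singleton_iff]
        exact Subtype.ext ((hNmem b).1 hb)
    rw [hgen] at hY
    have := hY (mem_top (⟨a, ha⟩ : N))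
    rw [Subgroup.mem_centralizer_singleton_iff] at this
    exact (congrArg Subtype.val this)
  have hK := index_commutator_of_abelian_max p hp N hk2 hab hZN
  have hZ : Nat.card (center P) = p ^ 2 := by
    have h2 := Subgroup.card_mul_index (center P)
    rw [h, hP] at h2
    have : Nat.card (center P) * p ^ 2 = p ^ 2 * p ^ 2 := by rw [h2]; ring
    exact Nat.eq_of_mul_eq_mul_right (by positivity) this
  have h3 := Subgroup.card_mul_index (commutator P)
  rw [hK, hZ, hP] at h3
  have : Nat.card (commutator P) * (p * p ^ 2) = p * (p * p ^ 2) := by rw [h3]; ring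
  exact Nat.eq_of_mul_eq_mul_right (by positivity) this

end CfsgLib.Lead
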