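import Mathlib
set_option autoImplicit false
set_option maxRecDepth 1000000

namespace CfsgLib.Lead.SL25


def enc : List ℕ := [0,0,0,0,0,0,0,0,0,0,0,0,0,0,0,0,0,0,0,0,0,0,0,0,0,0,0,0,0,0,0,0,0,0,0,0,0,0,0,0,0,0,0,0,0,1221,6432,2081,14463,10552,0,0,0,0,0,0,0,0,0,0,5321,9454,3723,9325,4396,0,0,0,0,0,0,0,0,0,0,0,0,0,0,0,0,0,0,0,0,0,0,0,0,0,10783,11708,5327,12381,6650,0,0,0,0,0,0,0,0,0,0,231,5552,1641,14023,9672,0,0,0,0,0,0,0,0,0,0,0,0,0,0,0,0,1332,0,0,0,0,3180,0,0,0,0,6877,0,0,0,0,3899,0,0,0,0,2268,0,0,0,0,3070,0,0,0,0,0,13309,0,0,0,0,0,4649,0,0,0,0,0,627,11884,0,0,0,0,0,7757,0,0,0,0,0,0,4539,0,5728,0,0,0,0,0,0,12634,0,0,0,0,0,0,1561,0,3019,0,0,0,0,0,0,0,297,0,0,12524,0,0,7982,0,0,0,0,0,0,0,8507,0,0,2378,0,0,0,11004,0,0,0,0,0,0,0,0,2441,0,0,0,8397,0,0,0,7988,0,0,0,0,0,1737,0,0,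0,0,14224,0,0,0,0,4309,0,0,0,0,880,0,0,0,0,11058,0,0,0,0,14114,0,0,2668,0,0,0,0,0,0,0,5981,0,0,5638,0,0,3807,0,0,0,0,0,0,0,4749,0,0,0,0,0,5871,3997,0,0,0,0,0,8908,0,0,0,0,0,8694,0,0,0,0,0,440,0,0,0,6078,0,0,0,8798,0,0,0,7053,0,0,0,0,0,0,0,0,9839,0,0,0,11168,0,3367,0,0,0,0,0,0,9134,0,0,0,0,0,0,9729,0,13451,0,0,0,0,0,14367,0,0,0,0,5046,0,0,0,0,572,0,0,0,0,11795,0,0,0,0,1880,0,0,0,0,4936,0,0,0,0,0,0,2653,0,6375,0,0,0,0,0,0,6970,0,12737,0,0,0,0,0,0,1012,0,0,0,6265,0,0,0,9051,0,0,0,0,0,0,0,0,7306,0,0,0,10026,0,0,0,11355,0,0,0,0,0,7410,0,0,0,0,0,7196,10655,0,0,0,0,0,10233,0,0,0,0,0,1990,0,0,12297,0,0,0,0,0,0,0,10466,0,0,10123,0,0,0,0,0,0,0,11984,0,0,0,0,13320,0,0,0,0,13836,0,0,0,0,12205,0,0,0,0,9227,0,0,0,0,12924,0,0,0,0,13726,0,0,0,6664,0,0,0,7707,0,0,0,13663,0,0,0,5100,0,0,0,0,0,0,0,0,13085,0,0,7597,0,0,8122,0,0,0,0,0,0,0,3580,0,0,1155,0,0,0,0,0,0,0,8347,0,14543,0,0,0,0,0,0,3470,0,10376,0,0,0,0,0,0,11565,0,0,0,0,0,0,13034,4220,0,0,0,0,0,825,0,0,0,0,0,11455,0,0,0,0,0,2795,0]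

def lk (a b c d : ZMod 5) : ℕ := enc.getD (a.val + 5 * b.val + 25 * c.val + 125 * d.val) 0

def E00 (a b c d : ZMod 5) : ZMod 11 := ((lk a b c d) : ℕ)
def E01 (a b c d : ZMod 5) : ZMod 11 := ((lk a b c d / 11 : ℕ) : ZMod 11)
def E10 (a b c d : ZMod 5) : ZMod 11 := ((lk a b c d / 121 : ℕ) : ZMod 11)
def E11 (a b c d : ZMod 5) : ZMod 11 := ((lk a b c d / 1331 : ℕ) : ZMod 11)

theorem gen1 : ∀ a b c d : ZMod 5, a * d - b * c = 1 → ∀ t : ZMod 5,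
   E00 a (a*t+b) c (c*t+d) = E00 a b c d * E00 1 t 0 1 + E01 a b c d * E10 1 t 0 1 ∧
   E01 a (a*t+b) c (c*t+d) = E00 a b c d * E01 1 t 0 1 + E01 a b c d * E11 1 t 0 1 ∧
   E10 a (a*t+b) c (c*t+d) = E10 a b c d * E00 1 t 0 1 + E11 a b c d * E10 1 t 0 1 ∧
   E11 a (a*t+b) c (c*t+d) = E10 a b c d * E01 1 t 0 1 + E11 a b c d * E11 1 t 0 1 := by
  decide +kernel

theorem gen2 : ∀ a b c d : ZMod 5, a * d - b * c = 1 → ∀ t : ZMod 5,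
   E00 (a+b*t) b (c+d*t) d = E00 a b c d * E00 1 0 t 1 + E01 a b c d * E10 1 0 t 1 ∧
   E01 (a+b*t) b (c+d*t) d = E00 a b c d * E01 1 0 t 1 + E01 a b c d * E11 1 0 t 1 ∧
   E10 (a+b*t) b (c+d*t) d = E10 a b c d * E00 1 0 t 1 + E11 a b c d * E10 1 0 t 1 ∧
   E11 (a+b*t) b (c+d*t) d = E10 a b c d * E01 1 0 t 1 + E11 a b c d * E11 1 0 t 1 := by
  decide +kernel

/-- fixed-point-freeness -/
theorem fpf : ∀ a b c d : ZMod 5, a * d - b * c = 1 → (a = 1 ∧ b = 0 ∧ c = 0 ∧ d = 1) ∨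
    (E00 a b c d - 1) * (E11 a b c d - 1) - E01 a b c d * E10 a b c d ≠ 0 := by
  decide +kernel

theorem eone : E00 1 0 0 1 = 1 ∧ E01 1 0 0 1 = 0 ∧ E10 1 0 0 1 = 0 ∧ E11 1 0 0 1 = 1 := by
  decide +kernel

end CfsgLib.Lead.SL25
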